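import Groth.Agent.Lib.GeomRed18.Perfect
import Mathlib

/-!
# Functions constant on the fibres
-/

set_option autoImplicit false
set_option linter.style.haveILetI false

universe u

open TensorProduct

namespace Groth.Agent.FibConst4

/-- In a field extension, an element with `s ⊗ 1 = 1 ⊗ s` is in the base. -/
theorem mem_range_of_tmul_eq (K L : Type u) [Field K] [Field L] [Algebra K L] (s : L)
    (h : s ⊗ₜ[K] (1 : L) = (1 : L) ⊗ₜ[K] s) : s ∈ Set.range (algebraMap K L) := by
  obtain ⟨π, hπ⟩ := LinearMap.exists_leftInverse_of_injective (Algebra.linearMap K L)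
    (LinearMap.ker_eq_bot.2 (algebraMap K L).injective)
  refine ⟨π s, ?_⟩
  have h1 := congrArg ((TensorProduct.rid K L).toLinearMap ∘ₗ TensorProduct.map LinearMap.id π) h
  have hπ1 : π 1 = 1 := by
    have := LinearMap.congr_fun hπ (1 : K)
    simpa using this
  simp only [LinearMap.comp_apply, TensorProduct.map_tmul, LinearMap.id_apply, LinearEquiv.coe_coe,
    TensorProduct.rid_tmul, hπ1, one_smul] at h1
  rw [Algebra.algebraMap_eq_smul_one, ← h1]

/-- A function on `B` taking equal values at points with the same image is a fraction from `A`. -/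
theorem exists_fraction (k A B : Type u) [Field k] [IsAlgClosed k] [CharZero k] [CommRing A] [CommRing B]
    [IsDomain A] [IsDomain B] [Algebra k A] [Algebra k B] [Algebra A B] [IsScalarTower k A B]
    [Algebra.FiniteType k B] (hinj : Function.Injective (algebraMap A B)) (s : B)
    (hs : ∀ χ₁ χ₂ : B →ₐ[k] k, (∀ a, χ₁ (algebraMap A B a) = χ₂ (algebraMap A B a)) → χ₁ s = χ₂ s) :
    ∃ a c : A, c ≠ 0 ∧ algebraMap A B c * s = algebraMap A B a := by
  let R := B ⊗[A] B
  haveI : Algebra.FiniteType A B := Algebra.FiniteType.of_restrictScalars_finiteType k A B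
  haveI : Algebra.FiniteType k R := Algebra.FiniteType.trans (S := B) inferInstance inferInstance
  haveI : IsJacobsonRing R := isJacobsonRing_of_finiteType (A := k)
  let w : R := s ⊗ₜ[A] 1 - 1 ⊗ₜ[A] s
  have hw : IsNilpotent w := by
    rw [← mem_nilradical, show nilradical R = (⊥ : Ideal R).radical from rfl, ← IsJacobsonRing.out (inferInstance : IsJacobsonRing R) (Ideal.radical_isRadical (⊥ : Ideal R) )]
    refine Ideal.mem_sInf.2 fun {M} hM => ?_
    obtain ⟨-, hM⟩ := hM
    letI : Field (R ⧸ M) := Ideal.Quotient.field M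
    haveI : Module.Finite k (R ⧸ M) := finite_of_finite_type_of_isJacobsonRing k (R ⧸ M)
    let ε : (R ⧸ M) →ₐ[k] k := IsAlgClosed.lift
    have hε : Function.Injective ε := ε.toRingHom.injective
    let θ : R →ₐ[k] k := ε.comp (Ideal.Quotient.mkₐ k M)
    let χ₁ : B →ₐ[k] k := θ.comp ((Algebra.TensorProduct.includeLeft : B →ₐ[A] B ⊗[A] B).restrictScalars k)
    let χ₂ : B →ₐ[k] k := θ.comp ((Algebra.TensorProduct.includeRight : B →ₐ[A] B ⊗[A] B).restrictScalars k)
    have := hs χ₁ χ₂ fun a => congrArg θ (Algebra.TensorProduct.tmul_one_eq_one_tmul a)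
    have h2 : θ w = 0 := by
      rw [map_sub, sub_eq_zero]
      exact this
    exact Ideal.Quotient.eq_zero_iff_mem.1 (hε (h2.trans (map_zero ε).symm))
  let K := FractionRing A
  let L := FractionRing B
  letI : Algebra K L := (IsFractionRing.lift (g := (algebraMap B L).comp (algebraMap A B))
    ((IsFractionRing.injective B L).comp hinj)).toAlgebra
  haveI : IsScalarTower A K L := IsScalarTower.of_algebraMap_eq fun a =>
    (IsFractionRing.lift_algebraMap (g := (algebraMap B L).comp (algebraMap A B))
      ((IsFractionRing.injective B L).comp hinj) a).symm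
  haveI : CharZero A := charZero_of_injective_algebraMap (algebraMap k A).injective
  haveI : CharZero K := charZero_of_injective_algebraMap (IsFractionRing.injective A K)
  haveI : IsReduced (L ⊗[K] L) := Groth.Agent.GeomRed.isReduced_tensor_of_perfectField (k := K) L L
  let Φ : R →ₐ[A] L ⊗[K] L := Algebra.TensorProduct.lift
    (((Algebra.TensorProduct.includeLeft : L →ₐ[K] L ⊗[K] L).restrictScalars A).comp (IsScalarTower.toAlgHom A B L))
    (((Algebra.TensorProduct.includeRight : L →ₐ[K] L ⊗[K] L).restrictScalars A).comp (IsScalarTower.toAlgHom A B L))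
    fun _ _ => Commute.all _ _
  have h0 : Φ w = 0 := (hw.map Φ).eq_zero
  have h1 : (algebraMap B L s) ⊗ₜ[K] (1 : L) = (1 : L) ⊗ₜ[K] algebraMap B L s := by
    rw [map_sub, sub_eq_zero] at h0
    have e1 : Φ (s ⊗ₜ[A] (1 : B)) = algebraMap B L s ⊗ₜ[K] (1 : L) := by
      rw [show Φ = _ from rfl, Algebra.TensorProduct.lift_tmul, map_one, mul_one]
      rfl
    have e2 : Φ ((1 : B) ⊗ₜ[A] s) = (1 : L) ⊗ₜ[K] algebraMap B L s := by
      rw [show Φ = _ from rfl, Algebra.TensorProduct.lift_tmul, map_one, one_mul]
      rfl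
    rw [← e1, ← e2]
    exact h0
  obtain ⟨r, hr⟩ := mem_range_of_tmul_eq K L _ h1
  obtain ⟨a, c, hc, rfl⟩ := IsFractionRing.div_surjective A r
  refine ⟨a, c, nonZeroDivisors.ne_zero hc, IsFractionRing.injective B L ?_⟩
  rw [map_div₀, ← IsScalarTower.algebraMap_apply A K L, ← IsScalarTower.algebraMap_apply A K L,
    IsScalarTower.algebraMap_apply A B L, IsScalarTower.algebraMap_apply A B L] at hr
  rw [map_mul, ← hr, mul_comm, div_mul_cancel₀]
  exact fun h => nonZeroDivisors.ne_zero hc (hinj ((IsFractionRing.injective B L (h.trans (map_zero _).symm)).trans (map_zero _).symm))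

/-- Over a normal noetherian domain, a fraction which is not regular has a pole along a point. -/
theorem exists_pole {A K : Type u} [CommRing A] [IsDomain A] [IsNoetherianRing A] [Field K] [Algebra A K]
    [IsFractionRing A K]
    (hn : ∀ (P : Ideal A) [P.IsPrime], IsIntegrallyClosed (Localization.AtPrime P)) (r : K)
    (hr : r ∉ Set.range (algebraMap A K)) :
    ∃ P : Ideal A, P.IsPrime ∧ ∃ e ∈ P, ∃ b : A, b ∉ P ∧ r * algebraMap A K e = algebraMap A K b := by
  classical
  let col : A → Ideal A := fun a =>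
    (LinearMap.range (Algebra.linearMap A K)).comap (LinearMap.toSpanSingleton A K (algebraMap A K a * r))
  have hcol : ∀ a t, t ∈ col a ↔ ∃ b, algebraMap A K b = algebraMap A K t * (algebraMap A K a * r) := fun a t => by
    simp [col, Algebra.smul_def]
  let S : Set (Ideal A) := {I | ∃ a, I = col a ∧ (1 : A) ∉ I}
  have hS : S.Nonempty := ⟨col 1, 1, rfl, fun h => hr (by
    obtain ⟨b, hb⟩ := (hcol _ _).1 h
    exact ⟨b, by simpa using hb⟩)⟩
  obtain ⟨P, ⟨a, rfl, ha⟩, hmax⟩ := set_has_maximal_iff_noetherian.2 inferInstance S hS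
  have hP : (col a).IsPrime := by
    refine ⟨fun h => ha (h ▸ Submodule.mem_top), fun {x y} hxy => ?_⟩
    by_contra hc
    push Not at hc
    obtain ⟨b₀, hb₀⟩ := (hcol _ _).1 hxy
    have hle : col a ≤ col (y * a) := fun t ht => by
      obtain ⟨b, hb⟩ := (hcol _ _).1 ht
      exact (hcol _ _).2 ⟨y * b, by rw [map_mul, map_mul, hb]; ring⟩
    have h1 : (1 : A) ∉ col (y * a) := fun h => hc.2 (by
      obtain ⟨b, hb⟩ := (hcol _ _).1 h
      exact (hcol _ _).2 ⟨b, by rw [hb, map_one, map_mul]; ring⟩)
    refine hmax _ ⟨y * a, rfl, h1⟩ (lt_of_le_not_ge hle fun hge => hc.1 (hge ?_))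
    exact (hcol _ _).2 ⟨b₀, by rw [hb₀, map_mul, map_mul]; ring⟩
  haveI := hP
  refine ⟨col a, hP, ?_⟩
  let r' := algebraMap A K a * r
  by_contra hc
  push Not at hc
  haveI := hn (col a)
  let T := Localization.AtPrime (col a)
  letI : Algebra T K := IsLocalization.localizationAlgebraOfSubmonoidLe T K (col a).primeCompl (nonZeroDivisors A)
    (Ideal.primeCompl_le_nonZeroDivisors (col a))
  haveI : IsScalarTower A T K := IsLocalization.localization_isScalarTower_of_submonoid_le _ _ _ _ _
  haveI : IsFractionRing T K := IsFractionRing.isFractionRing_of_isDomain_of_isLocalization (col a).primeCompl T K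
  have hint : IsIntegral T r' := by
    have hP0 : col a ≠ ⊥ := by
      obtain ⟨b, c, hc0, hbc⟩ := IsFractionRing.div_surjective A r'
      intro h0
      refine nonZeroDivisors.ne_zero hc0 ((Submodule.mem_bot A).1 (h0 ▸ (hcol _ _).2 ⟨b, ?_⟩))
      change algebraMap A K b = algebraMap A K c * r'
      rw [← hbc, mul_div_cancel₀]
      exact IsFractionRing.to_map_ne_zero_of_mem_nonZeroDivisors hc0
    obtain ⟨e₀, he₀, he₀0⟩ := Submodule.exists_mem_ne_zero_of_ne_bot hP0
    refine isIntegral_of_smul_mem_submodule (Submodule.span T (algebraMap A K '' (col a : Set A))) ?_ ?_ r' ?_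
    · intro hbot
      apply he₀0
      apply IsFractionRing.injective A K
      rw [map_zero]
      exact (Submodule.mem_bot T).1 (hbot ▸ Submodule.subset_span ⟨e₀, he₀, rfl⟩)
    · obtain ⟨s, hs⟩ := (inferInstance : IsNoetherianRing A).noetherian (col a)
      refine ⟨s.image (algebraMap A K), ?_⟩
      refine le_antisymm (Submodule.span_mono ?_) (Submodule.span_le.2 ?_)
      · rw [Finset.coe_image, ← hs]
        exact Set.image_mono Submodule.subset_span
      · rintro _ ⟨t, ht, rfl⟩
        have : algebraMap A K t ∈ Submodule.map (Algebra.linearMap A K) (Submodule.span A (s : Set A)) :=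
          ⟨t, hs.symm ▸ ht, rfl⟩
        rw [Submodule.map_span] at this
        rw [Finset.coe_image]
        exact Submodule.span_le_restrictScalars A T _ this
    · intro v hv
      induction hv using Submodule.span_induction with
      | zero => rw [smul_zero]; exact Submodule.zero_mem _
      | add x y _ _ hx hy => rw [smul_add]; exact Submodule.add_mem _ hx hy
      | smul t x _ hx =>
        rw [smul_eq_mul, Algebra.smul_def, mul_left_comm, ← smul_eq_mul r', ← Algebra.smul_def]
        exact Submodule.smul_mem _ _ hx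
      | mem x hx =>
        obtain ⟨t, ht, rfl⟩ := hx
        obtain ⟨b, hb⟩ := (hcol _ _).1 ht
        refine Submodule.subset_span ⟨b, ?_, ?_⟩
        · by_contra hbP
          refine hc (t * a) (Ideal.mul_mem_right _ _ ht) b hbP ?_
          rw [hb, map_mul]; ring
        · rw [hb, smul_eq_mul]; ring
  obtain ⟨c, hc'⟩ := IsIntegrallyClosed.isIntegral_iff.1 hint
  obtain ⟨⟨b, u⟩, hbu⟩ := IsLocalization.surj (col a).primeCompl c
  refine u.2 ((hcol _ _).2 ⟨b, ?_⟩)
  change algebraMap A K b = algebraMap A K (u : A) * r'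
  rw [IsScalarTower.algebraMap_apply A T K b, ← hbu, map_mul, ← IsScalarTower.algebraMap_apply A T K, hc', mul_comm]

end Groth.Agent.FibConst4
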